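import Cfsg.Agent.H389.R.W5
import Cfsg.Agent.H349.S3530.C59
import Cfsg.Agent.H349.S3530.C1011
import Cfsg.Agent.H333.S3530.C2
import Cfsg.Agent.H333.S3530.C3

-- replace by the landed pieces (stub1, stub2, stub3 without l2_false, ree_false)

/-!
# S3530: one component is impossible (helper248, task 2720)
-/

set_option autoImplicit false
set_option linter.unusedSectionVars false
set_option linter.unusedVariables false

namespace Cfsg.Agent.H389.RSq

open Subgroup
open Cfsg.Agent.H389.JSq (Has)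

universe u

variable {m : ℕ} {σ : Fin 5 → ℕ} {X Y : Type u} [Group X] [Finite X] [Group Y] [Finite Y] {f : X →* Y}
  {D P : Subgroup X} {E K L : Subgroup Y} {H : Set ℕ → Subgroup X}

namespace OneComp

theorem mem_filt {p : Fin 5 → Prop} [DecidablePred p] {i : Fin 5} :
    i ∈ (Finset.univ.filter p) ↔ p i := by simp

/-- the prime divisors of the order of `PSL(2, u)` -/
theorem dvd_card_iff {s e : ℕ} (hK : IsL2 s e K) {p : ℕ} (hp : p.Prime) (hp2 : p ≠ 2) :
    p ∣ Nat.card K ↔ p = s ∨ p ∣ s ^ e - 1 ∨ p ∣ s ^ e + 1 := by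
  have hs : s.Prime := hK.psl.1
  have key : p ∣ Nat.card K ↔ p ∣ s ^ e * (s ^ e - 1) * (s ^ e + 1) := by
    by_cases h2 : s = 2
    · rw [hK.psl.card_even h2]
    · rw [← hK.psl.card_odd h2, hp.dvd_mul]
      constructor
      · exact Or.inr
      · rintro (h | h)
        · exact absurd ((Nat.prime_dvd_prime_iff_eq hp Nat.prime_two).1 h) hp2
        · exact h
  rw [key, hp.dvd_mul, hp.dvd_mul]
  have he : e ≠ 0 := by
    have := hK.odd
    rintro rfl
    exact absurd this (by decide)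
  constructor
  · rintro ((h | h) | h)
    · exact Or.inl ((Nat.prime_dvd_prime_iff_eq hp hs).1 (hp.dvd_of_dvd_pow h))
    · exact Or.inr (Or.inl h)
    · exact Or.inr (Or.inr h)
  · rintro (h | h | h)
    · left; left
      rw [h]
      exact dvd_pow_self s he
    · exact Or.inl (Or.inr h)
    · exact Or.inr h

end OneComp

open OneComp in
theorem M1.l2_false (h : M1 m σ f K) {s e : ℕ} (hK : IsL2 s e K) : False := by
  classical
  have hn := h.normal
  have S := h.sig
  obtain ⟨P, H, C⟩ := h.toM0.exists_cov (D := ⊤) (E := K) (by rw [h.toM0.top_map]; exact le_top)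
  have hs : s.Prime := hK.psl.1
  have he : e ≠ 0 := by
    have := hK.odd
    rintro rfl
    exact absurd this (by decide)
  have hu1 : 1 ≤ s ^ e := Nat.one_le_pow _ _ hs.pos
  obtain ⟨c, hc⟩ : ∃ c : Option (Fin 5), ∀ i, c = some i ↔ σ i = s := by
    by_cases h1 : ∃ i, σ i = s
    · obtain ⟨i, hi⟩ := h1
      refine ⟨some i, fun j => ?_⟩
      constructor
      · intro hj
        rw [Option.some.injEq] at hj
        rw [← hj, hi]
      · intro hj
        rw [S.inj (hi.trans hj.symm)]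
    · push Not at h1
      refine ⟨none, fun j => ?_⟩
      constructor
      · intro hj
        exact absurd hj (by simp)
      · intro hj
        exact absurd hj (h1 j)
  have hs1 : ∀ i, σ i ∣ s ^ e - 1 → σ i ≠ s := by
    intro i hi hs'
    have h1 : σ i ∣ s ^ e := by rw [hs']; exact dvd_pow_self s he
    have h2 : σ i ∣ s ^ e - (s ^ e - 1) := Nat.dvd_sub h1 hi
    have h3 : s ^ e - (s ^ e - 1) = 1 := by omega
    rw [h3] at h2
    exact (S.prime i).one_lt.ne' (Nat.dvd_one.1 h2)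
  have hs2 : ∀ i, σ i ∣ s ^ e + 1 → σ i ≠ s := by
    intro i hi hs'
    have h1 : σ i ∣ s ^ e := by rw [hs']; exact dvd_pow_self s he
    have h2 : σ i ∣ 1 := (Nat.dvd_add_right h1).1 hi
    exact (S.prime i).one_lt.ne' (Nat.dvd_one.1 h2)
  have hcard : ∀ i, σ i ∣ Nat.card K ↔ σ i = s ∨ σ i ∣ s ^ e - 1 ∨ σ i ∣ s ^ e + 1 :=
    fun i => dvd_card_iff hK (S.prime i) (S.ne_two i)
  have hidx1 : ∀ i, e = 1 → ¬ σ i ∣ K.index := by
    intro i he1 hi
    subst he1
    rw [h.c7 hK] at hi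
    exact (S.prime i).one_lt.ne' (Nat.dvd_one.1 hi)
  refine comb (Finset.univ.filter fun i => σ i ∣ s ^ e + 1) (Finset.univ.filter fun i => σ i ∣ s ^ e - 1)
    (Finset.univ.filter fun i => σ i ∣ Nat.card f.ker)
    (Finset.univ.filter fun i => σ i ∣ Nat.card (P ⊓ f.ker : Subgroup X))
    (Finset.univ.filter fun i => σ i ∣ K.index) c (s = 2) (e = 1) ?_ ?_ ?_ ?_ ?_ ?_ ?_ ?_ ?_ ?_ ?_ ?_ ?_ ?_ ?_ ?_ ?_ ?_ ?_
  · intro i hi
    rw [mem_filt] at hi ⊢
    exact hi.trans (card_dvd_of_le inf_le_right)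
  · rw [Finset.disjoint_left]
    intro i hi hi'
    rw [mem_filt] at hi hi'
    have h1 := (Nat.dvd_sub hi hi')
    have h2 : s ^ e + 1 - (s ^ e - 1) = 2 := by omega
    rw [h2] at h1
    exact S.ne_two i ((Nat.prime_dvd_prime_iff_eq (S.prime i) Nat.prime_two).1 h1)
  · intro i hi hci
    rw [mem_filt] at hi
    exact hs2 i hi ((hc i).1 hci)
  · intro i hi hci
    rw [mem_filt] at hi
    exact hs1 i hi ((hc i).1 hci)
  · rw [mem_filt, mem_filt, hc, S.zero]
    have h1 : 3 ∣ s ^ e * (s ^ e - 1) * (s ^ e + 1) := by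
      obtain ⟨u, hu⟩ : ∃ u, s ^ e = u + 1 := ⟨s ^ e - 1, by omega⟩
      rw [hu, Nat.add_sub_cancel]
      have h2 : u % 3 = 0 ∨ u % 3 = 1 ∨ u % 3 = 2 := by omega
      rcases h2 with h2 | h2 | h2
      · exact Dvd.dvd.mul_right (Dvd.dvd.mul_left (Nat.dvd_of_mod_eq_zero h2) _) _
      · exact Dvd.dvd.mul_left (Nat.dvd_of_mod_eq_zero (by omega)) _
      · exact Dvd.dvd.mul_right (Dvd.dvd.mul_right (Nat.dvd_of_mod_eq_zero (by omega)) _) _
    rcases (Nat.prime_three.dvd_mul).1 h1 with h2 | h2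
    · rcases (Nat.prime_three.dvd_mul).1 h2 with h3 | h3
      · right; right
        exact (Nat.prime_dvd_prime_iff_eq Nat.prime_three hs).1 (Nat.prime_three.dvd_of_dvd_pow h3)
      · exact Or.inr (Or.inl h3)
    · exact Or.inl h2
  · intro hs'
    subst hs'
    refine ⟨?_, ?_, ?_⟩
    · cases hcc : c with
      | none => rfl
      | some i => exact absurd ((hc i).1 hcc) (S.ne_two i)
    · rw [mem_filt, S.zero]
      intro h1
      obtain ⟨k, hk⟩ := hK.odd
      have h2 : ∀ k, 2 ^ (2 * k + 1) % 3 = 2 := by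
        intro k
        induction k with
        | zero => rfl
        | succ k ih =>
          have : 2 ^ (2 * (k + 1) + 1) = 4 * 2 ^ (2 * k + 1) := by ring
          rw [this]
          omega
      have h3 := h2 k
      rw [← hk] at h3
      omega
    · rcases hK.type with h1 | h1
      · omega
      · exact absurd rfl h1.1
  · intro hc0 he1
    have h1 := (hc 0).1 hc0
    rw [S.zero] at h1
    subst he1
    rw [← h1] at hK
    rcases hK.type with h2 | h2
    · omega
    · omega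
  · intro y hy
    rw [mem_filt, mem_filt] at hy
    rw [mem_filt, mem_filt]
    by_contra hcon
    push Not at hcon
    refine h.ec (j := y) ((hcard y).2 ?_) hcon.1 hcon.2 (fun T hT => hK.psl.isCyclic (S.prime y) (S.ne_two y) (Or.inl ?_) hT)
    · rcases hy with hy | hy
      · exact Or.inr (Or.inr hy)
      · exact Or.inr (Or.inl hy)
    · rcases hy with hy | hy
      · exact hs2 y hy
      · exact hs1 y hy
  · intro he1 y hy
    rw [mem_filt]
    by_contra hcon
    exact h.ec (j := y) ((hcard y).2 (Or.inl ((hc y).1 hy))) hcon (hidx1 y he1)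
      (fun T hT => hK.psl.isCyclic (S.prime y) (S.ne_two y) (Or.inr he1) hT)
  · intro y h1 h2 h3
    rw [mem_filt] at h1 h2
    rw [mem_filt]
    by_contra hcon
    refine h.c2 hK (j := y) (fun h4 => ?_) hcon
    rcases (hcard y).1 h4 with h5 | h5 | h5
    · exact h3 ((hc y).2 h5)
    · exact h2 h5
    · exact h1 h5
  · obtain ⟨i, j, hij, hi, hj⟩ := h.c3 hK
    exact ⟨i, mem_filt.2 hi, j, mem_filt.2 hj, hij⟩
  · obtain ⟨i, j, hij, hi, hj⟩ := h.c4 hK
    have key : ∀ i, σ i ∣ s ^ e * (s ^ e - 1) →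
        (i ∈ (Finset.univ.filter fun i => σ i ∣ s ^ e - 1) ∨ c = some i) := by
      intro i hi
      rw [mem_filt, hc]
      rcases (S.prime i).dvd_mul.1 hi with h1 | h1
      · exact Or.inr ((Nat.prime_dvd_prime_iff_eq (S.prime i) hs).1 ((S.prime i).dvd_of_dvd_pow h1))
      · exact Or.inl h1
    exact ⟨i, j, hij, key i hi, key j hj⟩
  · intro i hi j hj hij
    rw [mem_filt] at hi hj
    by_contra hcon
    push Not at hcon
    exact h.c5 hK hij hcon.1 hcon.2 hi hj
  · intro hev h0 i hi j hj hij w hw hw0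
    rw [mem_filt] at h0 hi hj hw
    rw [S.zero] at h0
    by_contra hcon
    push Not at hcon
    exact h.c6 hK hev h0 hij hcon.1 hcon.2 hw0 hi hj hw
  · intro he1
    rw [Finset.filter_eq_empty_iff]
    intro i _
    exact hidx1 i he1
  · intro i hi j hj hij w hw
    rw [mem_filt] at hi hj hw
    by_contra hcon
    push Not at hcon
    exact h.c8 C hij hcon.1 hcon.2 hi hj hw
  · intro r hr hr0
    rw [mem_filt] at hr hr0
    by_contra hcon
    push Not at hcon
    obtain ⟨i, hi, j, hj, l, hl, hij, hil, hjl⟩ := Finset.two_lt_card.1 hcon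
    simp only [Finset.mem_filter, Finset.mem_univ, true_and, ne_eq] at hi hj hl
    exact h.c9 hK C hr hr0 hij hil hjl hi.2.1 hj.2.1 hl.2.1 (fun e1 => hi.2.2 ((hc i).2 e1))
      (fun e1 => hj.2.2 ((hc j).2 e1)) (fun e1 => hl.2.2 ((hc l).2 e1)) hi.1 hj.1 hl.1
  · intro he1 r hr hr0
    rw [mem_filt] at hr0
    have hrs := (hc r).1 hr
    rw [hrs] at hr0
    by_contra hcon
    push Not at hcon
    obtain ⟨i, hi, j, hj, l, hl, hij, hil, hjl⟩ := Finset.two_lt_card.1 hcon
    simp only [Finset.mem_filter, Finset.mem_erase, Finset.mem_univ, true_and, ne_eq] at hi hj hl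
    exact h.c10 hK C he1 hrs hr0 hij hil hjl hi.1 hj.1 hl.1 hi.2 hj.2 hl.2
  · intro p hp q hq hpq hp0 hq0
    rw [mem_filt] at hp hq hp0 hq0
    by_contra hcon
    push Not at hcon
    obtain ⟨i, hi, j, hj, l, hl, hij, hil, hjl⟩ := Finset.two_lt_card.1 hcon
    simp only [Finset.mem_filter, Finset.mem_erase, Finset.mem_univ, true_and, ne_eq] at hi hj hl
    exact h.c11 hK C hpq hp hq hp0 hq0 hij hil hjl hi.2.1 hj.2.1 hl.2.1 hi.1 hj.1 hl.1 hi.2.2 hj.2.2 hl.2.2

theorem M1.ree_false (h : M1 m σ f K) {m₁ : ℕ} (hK : IsRee m₁ K) : False := by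
  classical
  have hn := h.normal
  have S := h.sig
  -- the same field
  have hmm : m₁ = m := by
    by_contra hne
    have h1 := S.ree m₁ hK.1 hne (fun p hp hd => by
      rw [← hK.card] at hd
      have : Fact p.Prime := ⟨hp⟩
      obtain ⟨g, hg⟩ := exists_prime_orderOf_dvd_card' p hd
      have h2 := (h.cl.of_surjective f h.surj).subgroup K
      exact h2.prm g p hp (by rw [hg]))
    have h2 := h.lam
    rw [Lam, hK.card] at h2
    omega
  subst hmm
  obtain ⟨γ, hγ, hγd⟩ := S.big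
  obtain ⟨-, hidx⟩ := ree_ext hK h.cent h.index
  have hgt : ∀ i, i ≠ 0 → 3 < σ i := by
    intro i hi
    have h1 := (S.prime i).two_le
    have h2 := S.ne_two i
    have h3 : σ i ≠ 3 := by
      rw [← S.zero]
      exact S.ne hi
    omega
  have hker : ∀ j, j ≠ 0 → ¬ σ j ∣ 2 * m₁ + 1 → σ j ∣ Nat.card f.ker := by
    intro j hj hjd
    by_contra hcon
    exact h.ec (j := j) (by rw [hK.card]; exact S.dvd j) hcon (fun h1 => hjd (h1.trans hidx))
      (fun T hT => hK.isCyclic (S.prime j) (hgt j hj) hT)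
  have h1 : σ 1 ∣ Nat.card f.ker := hker 1 (by decide) S.one
  have h2 : σ 2 ∣ Nat.card f.ker := hker 2 (by decide) S.two
  have hγ0 : γ ≠ 0 ∧ γ ≠ 1 ∧ γ ≠ 2 := by rcases hγ with rfl | rfl <;> decide
  have h3 : σ γ ∣ Nat.card f.ker := hker γ hγ0.1 hγd
  obtain ⟨P, H, C⟩ := h.toM0.exists_cov (D := ⊤) (E := K) (by rw [h.toM0.top_map]; exact le_top)
  obtain ⟨h7d, h70, h71⟩ := cls_seven h.hm
  have htop : Nat.card (⊤ ⊓ f.ker : Subgroup X) = Nat.card f.ker := by rw [top_inf_eq]
  have hp7 : Nat.Prime 7 := by norm_num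
  by_cases hP3 : 3 ∣ Nat.card (P ⊓ f.ker : Subgroup X)
  · have h3ker : 3 ∣ Nat.card f.ker := hP3.trans (card_dvd_of_le inf_le_right)
    by_cases hP7 : 7 ∣ Nat.card (P ⊓ f.ker : Subgroup X)
    · refine h.toM0.no_two C h.isK.perfect (fun ℓ hℓ hℓ2 => noMult h.isK hℓ hℓ2) (a := 3) (b := 7) (w := σ 1) ?_
        hP3 hP7 (by rw [htop]; exact h1)
      refine ⟨Nat.prime_three, hp7, S.prime 1, by norm_num, by norm_num, S.ne_two 1, ?_, ?_, ?_⟩
      · rw [cls_three]; exact h70.symm
      · rw [cls_three, S.cls]; decide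
      · rw [S.cls]; exact h71
    · obtain ⟨x, -, hx, -, hw⟩ := h.toM0.pivot C hK.simple le_rfl Nat.prime_two hp7 (by norm_num) hK.piv_seven hP7
      have key : ∀ i, cls m₁ 7 ≠ i → σ i ∣ Nat.card f.ker →
          σ i ∣ Nat.card (centralizer {x} ⊓ f.ker : Subgroup X) := by
        intro i hi hid
        refine hw (σ i) (S.prime i) ?_ (S.ne_two i) (by rw [htop]; exact hid)
        intro h4
        apply hi
        rw [← h4, S.cls]
      obtain ⟨j, hj0, hj1, hj7, hjd⟩ : ∃ j, j ≠ 0 ∧ j ≠ 1 ∧ cls m₁ 7 ≠ j ∧ σ j ∣ Nat.card f.ker := by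
        by_cases h4 : cls m₁ 7 = 2
        · refine ⟨γ, hγ0.1, hγ0.2.1, ?_, h3⟩
          rw [h4]; exact hγ0.2.2.symm
        · exact ⟨2, by decide, by decide, h4, h2⟩
      have h3c := key 0 h70 (by rw [S.zero]; exact h3ker)
      refine h.toM0.no_three (y := x) (ρ := 7) (S.tri (i := 0) (j := 1) (l := j) (by decide) hj0.symm hj1.symm)
        hp7 (by norm_num) ?_ ?_ ?_ hx h3c (key 1 h71 h1) (key j hj7 hjd)
      · rw [S.cls]; exact h70
      · rw [S.cls]; exact h71
      · rw [S.cls]; exact hj7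
  · obtain ⟨x, -, hx, -, hw⟩ := h.toM0.pivot C hK.simple le_rfl Nat.prime_two Nat.prime_three (by norm_num)
      hK.piv_three hP3
    have key : ∀ i, i ≠ 0 → σ i ∣ Nat.card f.ker →
        σ i ∣ Nat.card (centralizer {x} ⊓ f.ker : Subgroup X) := by
      intro i hi hid
      exact hw (σ i) (S.prime i) (hgt i hi).ne' (S.ne_two i) (by rw [htop]; exact hid)
    refine h.toM0.no_three (y := x) (ρ := 3) (S.tri (i := 1) (j := 2) (l := γ) (by decide) hγ0.2.1.symm hγ0.2.2.symm)
      Nat.prime_three (by norm_num) ?_ ?_ ?_ hx (key 1 (by decide) h1) (key 2 (by decide) h2) (key γ hγ0.1 h3)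
    · rw [cls_three, S.cls]; decide
    · rw [cls_three, S.cls]; decide
    · rw [cls_three, S.cls]; exact hγ0.1.symm

end Cfsg.Agent.H389.RSq
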